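import Cfsg.Agent.H765.KE.Syl
import Cfsg.Agent.H795.Tw
import Cfsg.Agent.S1067

/-!
# The order of `q` modulo `p` for noncyclic Sylow `p`-subgroups (S4822, KE0; helper765)

`ord_G2`, `ord_F4`, `ord_E6`, `ord_E7`, `ord_E8`, `ord_2E6`, `ord_3D4`; `rank_le_two_E8`.
-/

set_option autoImplicit false
set_option linter.unusedSectionVars false

namespace Cfsg.Agent.H765.KE

open CoxeterSystem Cfsg Cfsg.Lie Cfsg.Lie.ChevalleyDatum
open Cfsg.Agent.ChevalleyStructure Cfsg.Agent.ChevalleyStructure.Elts Cfsg.Agent.ChevalleyStructure.CoxeterGeom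
  Cfsg.Agent.ChevalleyStructure.CoxeterGeomTypes Cfsg.Agent.ChevalleyStructure.NPerm
open Cfsg.Agent.Tits.Roots Cfsg.Agent.Tits.Core Cfsg.Agent.Nodes Cfsg.Agent.Nodes.Reps Cfsg.Agent.Nodes.BNOf
  Cfsg.Agent.Nodes.RGDChev Cfsg.Agent.Nodes.Bruhat
open Cfsg.Agent.KFacts.RgdField Cfsg.Agent.KFacts.RgdChevCoord Cfsg.Agent.BpExc.TorCent Cfsg.Agent.BpExc.TorChev
open Cfsg.Agent.GpExc.Field Cfsg.Agent.BpExc.Tow Cfsg.Agent.BpExc.TowChev Cfsg.Agent.BpExc.Fr
  Cfsg.Agent.BpExc.LangFr Cfsg.Agent.H795.SetCent Cfsg.Agent.H795.Toral Cfsg.Agent.H795.Core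
  Cfsg.Agent.H795.RootConn Cfsg.Agent.H795.SetTor Cfsg.Agent.H129.TorusChar Cfsg.Agent.H129.TorusUntw
  Cfsg.Agent.H795.Reduce Cfsg.Agent.H795.LangT Cfsg.Agent.H123.ExcZ Cfsg.Agent.H720.TwFr
  Cfsg.Agent.BpExc Cfsg.Agent.H210.EL Cfsg.Agent.H440.TD4 Cfsg.Agent.H795 Cfsg.Agent.H795.Untw
  Cfsg.Agent.H795.RowsA Cfsg.Agent.BpExc.RowsUntw Cfsg.Agent.H795.Tw

universe u v

/-- transport of noncyclic Sylow subgroups along an isomorphism -/
theorem nc_equiv {p : ℕ} [hpp : Fact p.Prime] {S : Type v} [Group S] [Finite S] {G : Type u} [Group G] [Finite G]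
    (e : Nonempty (S ≃* G)) (hnc : ∀ P : Sylow p S, ¬ IsCyclic (P : Subgroup S)) (P : Sylow p G) :
    ¬ IsCyclic (P : Subgroup G) := by
  obtain ⟨e⟩ := e
  intro hc
  let P' : Sylow p S := P.comapOfInjective e.toMonoidHom e.injective (by
    rw [MonoidHom.range_eq_top.2 e.surjective]
    exact le_top)
  have hmem : ∀ x : S, x ∈ (P' : Subgroup S) → e x ∈ (P : Subgroup G) := fun x hx => hx
  let φ : ↥(P' : Subgroup S) →* ↥(P : Subgroup G) :=
    { toFun := fun x => ⟨e x, hmem x x.2⟩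
      map_one' := Subtype.ext (map_one e)
      map_mul' := fun x y => Subtype.ext (map_mul e _ _) }
  exact hnc P' (isCyclic_of_injective φ fun x y hxy => Subtype.ext (e.injective (congrArg Subtype.val hxy)))

section

variable {D : ChevalleyDatum} {l : ℕ} {M : CoxeterMatrix (Fin l)} (hp : IsType D l M)

include hp in
/-- the untwisted groups -/
theorem two_mul_totient_untw {F : Type u} [Field F] [Fintype F] {p : ℕ} [hpp : Fact p.Prime] (h5 : 5 ≤ p)
    (hpF : (p : F) ≠ 0) {d : ℕ} {B : Fin l → Fin l → ℤ}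
    (hB : InvC D l d B) (hd : d ≠ 0) (hd1 : d = 1 ∨ d.Prime) (hpd : ¬ p ∣ d) (hW : ¬ p ∣ Nat.card M.Group)
    (P : Sylow p ↥(D.group F)) (hnc : ¬ IsCyclic (P : Subgroup ↥(D.group F))) :
    orderOf ((Fintype.card F : ℕ) : ZMod p) ≠ 0 ∧
      2 * Nat.totient (orderOf ((Fintype.card F : ℕ) : ZMod p)) ≤ l := by
  obtain ⟨r, e, hr, hrF, hrk, he, hq, hk⟩ := exists_closure (F := F) rfl
  have hpr : p ≠ r := by
    rintro rfl
    exact hpF (CharP.cast_eq_zero F p)
  have hset := setup_untw hp hk (algebraMap F (AlgebraicClosure F)) he hq hB hd hd1 (p := p) hpd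
  have hGf : Finite ↥(D.group F) := inferInstance
  have h1 := two_mul_totient_le hp hk (by omega) hpr hW hB hd hset (m := 1)
    (fun h1 => by have := Nat.le_of_dvd one_pos h1; omega) (fun x => rfl) P hnc
  rw [← hq] at h1
  refine ⟨?_, h1⟩
  have h2 : ((Fintype.card F : ℕ) : ZMod p) ≠ 0 := by
    rw [hq, Ne, ZMod.natCast_eq_zero_iff]
    intro h3
    exact hpr ((Nat.prime_dvd_prime_iff_eq hpp.out hr.out).1 (hpp.out.dvd_of_dvd_pow h3))
  exact (orderOf_pos_iff.2 (isOfFinOrder_iff_pow_eq_one.2 ⟨p - 1, by have := hpp.out.two_le; omega,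
    ZMod.pow_card_sub_one_eq_one h2⟩)).ne'

end

section rows

variable {r : ℕ} [hr : Fact r.Prime] {F : Type u} [Field F] [Fintype F] [CharP F r] {p : ℕ} [hpp : Fact p.Prime]
  {S : Type v} [Group S] [Finite S]

include hr hpp in
theorem cast_ne_zero (hrp : r ≠ p) : (p : F) ≠ 0 := by
  intro h
  have h1 := (CharP.cast_eq_zero_iff F r p).1 h
  exact hrp ((Nat.prime_dvd_prime_iff_eq hr.out hpp.out).1 h1)

theorem ord_G2 (hrp : r ≠ p) (h11 : 11 ≤ p) (e : Nonempty (S ≃* ↥(chevG2.group F)))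
    (hnc : ∀ P : Sylow p S, ¬ IsCyclic (P : Subgroup S)) :
    orderOf ((Fintype.card F : ℕ) : ZMod p) = 1 ∨ orderOf ((Fintype.card F : ℕ) : ZMod p) = 2 := by
  have := finW g2T
  have h := not_dvd_12 hpp.out (by omega : 5 ≤ p)
  rw [← card_G2] at h
  obtain ⟨h0, h1⟩ := two_mul_totient_untw g2T (by omega) (cast_ne_zero hrp) invC_G2 one_ne_zero (Or.inl rfl)
    (not_dvd_small (by omega) one_ne_zero (by norm_num)) h default (nc_equiv e hnc default)
  exact totient_le_one h0 (by omega)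

theorem ord_F4 (hrp : r ≠ p) (h11 : 11 ≤ p) (e : Nonempty (S ≃* ↥(chevF4.group F)))
    (hnc : ∀ P : Sylow p S, ¬ IsCyclic (P : Subgroup S)) {d : ℕ} (hd : d = orderOf ((Fintype.card F : ℕ) : ZMod p)) :
    d = 1 ∨ d = 2 ∨ d = 3 ∨ d = 4 ∨ d = 6 := by
  subst hd
  have := finW f4T
  have h := not_dvd_1152 hpp.out (by omega : 5 ≤ p)
  rw [← card_F4] at h
  obtain ⟨h0, h1⟩ := two_mul_totient_untw f4T (by omega) (cast_ne_zero hrp) invC_F4 one_ne_zero (Or.inl rfl)
    (not_dvd_small (by omega) one_ne_zero (by norm_num)) h default (nc_equiv e hnc default)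
  exact totient_le_three h0 (by omega)

theorem ord_E6 (hrp : r ≠ p) (h11 : 11 ≤ p) (e : Nonempty (S ≃* ↥(chevE6.group F)))
    (hnc : ∀ P : Sylow p S, ¬ IsCyclic (P : Subgroup S)) {d : ℕ} (hd : d = orderOf ((Fintype.card F : ℕ) : ZMod p)) :
    d = 1 ∨ d = 2 ∨ d = 3 ∨ d = 4 ∨ d = 6 := by
  subst hd
  have := finW e6T
  have h : ¬ p ∣ Nat.card CoxeterMatrix.E₆.Group := by
    rw [card_E6]
    intro h
    have := dvd_51840 hpp.out (by omega) h
    omega
  obtain ⟨h0, h1⟩ := two_mul_totient_untw e6T (by omega) (cast_ne_zero hrp) invC_E6 three_ne_zero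
    (Or.inr Nat.prime_three) (not_dvd_small (by omega) three_ne_zero (by norm_num)) h default (nc_equiv e hnc default)
  exact totient_le_three h0 (by omega)

theorem ord_E7 (hrp : r ≠ p) (h11 : 11 ≤ p) (e : Nonempty (S ≃* ↥(chevE7.group F)))
    (hnc : ∀ P : Sylow p S, ¬ IsCyclic (P : Subgroup S)) {d : ℕ} (hd : d = orderOf ((Fintype.card F : ℕ) : ZMod p)) :
    d = 1 ∨ d = 2 ∨ d = 3 ∨ d = 4 ∨ d = 6 := by
  subst hd
  have := finW e7T
  have h : ¬ p ∣ Nat.card CoxeterMatrix.E₇.Group := by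
    rw [card_E7]
    intro h
    have := dvd_2903040 hpp.out (by omega) h
    omega
  obtain ⟨h0, h1⟩ := two_mul_totient_untw e7T (by omega) (cast_ne_zero hrp) invC_E7 two_ne_zero
    (Or.inr Nat.prime_two) (not_dvd_small (by omega) two_ne_zero (by norm_num)) h default (nc_equiv e hnc default)
  exact totient_le_three h0 (by omega)

theorem not_dvd_E8 (h11 : 11 ≤ p) : ¬ p ∣ Nat.card CoxeterMatrix.E₈.Group := by
  rw [card_E8]
  intro h
  have := dvd_696729600 hpp.out (by omega) h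
  omega

theorem ord_E8 (hrp : r ≠ p) (h11 : 11 ≤ p) (e : Nonempty (S ≃* ↥(chevE8.group F)))
    (hnc : ∀ P : Sylow p S, ¬ IsCyclic (P : Subgroup S)) {d : ℕ} (hd : d = orderOf ((Fintype.card F : ℕ) : ZMod p)) :
    d = 1 ∨ d = 2 ∨ d = 3 ∨ d = 4 ∨ d = 5 ∨ d = 6 ∨ d = 8 ∨ d = 10 ∨ d = 12 := by
  subst hd
  have := finW e8T
  obtain ⟨h0, h1⟩ := two_mul_totient_untw e8T (by omega) (cast_ne_zero hrp) invC_E8 one_ne_zero
    (Or.inl rfl) (not_dvd_small (by omega) one_ne_zero (by norm_num)) (not_dvd_E8 h11) default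
    (nc_equiv e hnc default)
  exact totient_le_four h0 (by omega)

/-- Sylow subgroups of `E₈(q)`: `|Ω₁(P)| ≤ p ^ 2` if `φ(d) ≥ 3` (`d = 5, 8, 10, 12`). -/
theorem rank_le_two_E8 (hrp : r ≠ p) (h11 : 11 ≤ p)
    (hd : 3 ≤ Nat.totient (orderOf ((Fintype.card F : ℕ) : ZMod p))) (P : Sylow p ↥(chevE8.group F)) :
    ∃ hP : IsMulCommutative (P : Subgroup ↥(chevE8.group F)),
      Nat.card ↥(om p (P : Subgroup ↥(chevE8.group F)) hP) ≤ p ^ 2 := by
  have := finW e8T
  have hpF : (p : F) ≠ 0 := cast_ne_zero hrp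
  obtain ⟨r', e', hr', hrF, hrk, he, hq, hk⟩ := exists_closure (F := F) rfl
  have hpr : p ≠ r' := by
    rintro rfl
    exact hpF (CharP.cast_eq_zero F p)
  have hset := setup_untw e8T hk (algebraMap F (AlgebraicClosure F)) he hq invC_E8 one_ne_zero (Or.inl rfl) (p := p)
    (not_dvd_small (by omega) one_ne_zero (by norm_num))
  have hP := sylow_comm e8T hk hpr (not_dvd_E8 h11) hset.inj P
  refine ⟨hP, ?_⟩
  have hpg : IsPGroup p ↥(om p (P : Subgroup ↥(chevE8.group F)) hP) := P.2.to_le fun x hx => hx.1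
  obtain ⟨n, hn⟩ := IsPGroup.iff_card.1 hpg
  have h1 := rank_mul_totient_le e8T hk hpr (not_dvd_E8 h11) invC_E8 one_ne_zero hset (m := 1)
    (fun h1 => by have := Nat.le_of_dvd one_pos h1; omega) (fun x => rfl) P hP hn.ge
  rw [← hq] at h1
  have h2 : n ≤ 2 := by
    by_contra hcon
    push Not at hcon
    have : 3 * 3 ≤ n * Nat.totient (orderOf ((Fintype.card F : ℕ) : ZMod p)) := Nat.mul_le_mul hcon hd
    omega
  rw [hn]
  exact Nat.pow_le_pow_right hpp.out.pos h2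

/-- `p ∤ q` for the twisted groups -/
theorem cast_q_ne_zero (hrp : r ≠ p) {q m : ℕ} (hF : Fintype.card F = q ^ m) (hm : m ≠ 0) :
    orderOf ((q : ℕ) : ZMod p) ≠ 0 := by
  have hpF : (p : F) ≠ 0 := cast_ne_zero hrp
  have h2 : ((q : ℕ) : ZMod p) ≠ 0 := by
    rw [Ne, ZMod.natCast_eq_zero_iff]
    intro h3
    have h4 : p ∣ Fintype.card F := by
      rw [hF]
      exact h3.trans (dvd_pow_self q hm)
    obtain ⟨c, hc⟩ := h4
    obtain ⟨n, -, hn⟩ := FiniteField.card F r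
    rw [hn] at hc
    have h5 : p ∣ r ^ (n : ℕ) := Dvd.intro c hc.symm
    exact hrp ((Nat.prime_dvd_prime_iff_eq hpp.out hr.out).1 (hpp.out.dvd_of_dvd_pow h5)).symm
  exact (orderOf_pos_iff.2 (isOfFinOrder_iff_pow_eq_one.2 ⟨p - 1, by have := hpp.out.two_le; omega,
    ZMod.pow_card_sub_one_eq_one h2⟩)).ne'

theorem ord_2E6 (hrp : r ≠ p) (h11 : 11 ≤ p) {q : ℕ} (hq : IsPrimePow q) (hF : Fintype.card F = q ^ 2)
    (e : Nonempty (S ≃* ↥(twistedE6 F q)))
    (hnc : ∀ P : Sylow p S, ¬ IsCyclic (P : Subgroup S)) {d : ℕ} (hd : d = orderOf ((q : ℕ) : ZMod p)) :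
    d = 1 ∨ d = 2 ∨ d = 3 ∨ d = 4 ∨ d = 6 := by
  subst hd
  have := finW hp6
  have hpF : (p : F) ≠ 0 := cast_ne_zero hrp
  have hq0 := cast_q_ne_zero hrp hF two_ne_zero
  obtain ⟨r', n, hr', hrF, hrk, hn0, hn, hk⟩ := exists_closure_q two_ne_zero hq hF
  have hpr : p ≠ r' := by
    rintro rfl
    exact hpF (CharP.cast_eq_zero F p)
  have h : ¬ p ∣ Nat.card CoxeterMatrix.E₆.Group := by
    rw [card_E6]
    intro h
    have := dvd_51840 hpp.out (by omega) h
    omega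
  have hset := setup_six (algebraMap F (AlgebraicClosure F)) r' hk hn0 hn hF (p := p) (by omega)
  have h1 := two_mul_totient_le hp6 hk (by omega) hpr h invC_E6 three_ne_zero hset (m := 2)
    (fun h1 => by have := Nat.le_of_dvd two_pos h1; omega) (fun x => by
      funext i
      fin_cases i <;> rfl) default (nc_equiv e hnc default)
  rw [← hn] at h1
  exact totient_le_three hq0 (by omega)

theorem ord_3D4 (hrp : r ≠ p) (h11 : 11 ≤ p) {q : ℕ} (hq : IsPrimePow q) (hF : Fintype.card F = q ^ 3)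
    (e : Nonempty (S ≃* ↥(twistedD4 F q)))
    (hnc : ∀ P : Sylow p S, ¬ IsCyclic (P : Subgroup S)) {d : ℕ} (hd : d = orderOf ((q : ℕ) : ZMod p)) :
    d = 1 ∨ d = 2 ∨ d = 3 ∨ d = 6 := by
  have := finW hp4
  have hpF : (p : F) ≠ 0 := cast_ne_zero hrp
  have hq0 := cast_q_ne_zero hrp hF three_ne_zero
  obtain ⟨r', n, hr', hrF, hrk, hn0, hn, hk⟩ := exists_closure_q three_ne_zero hq hF
  have hpr : p ≠ r' := by
    rintro rfl
    exact hpF (CharP.cast_eq_zero F p)
  have h : ¬ p ∣ Nat.card coxeterD4.Group := by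
    rw [card_D4]
    exact not_dvd_192 hpp.out (by omega)
  have hset := setup_four (algebraMap F (AlgebraicClosure F)) r' (tw4_le hq hF) hk hn0 hn hF (p := p)
  have h1 := two_mul_totient_le hp4 hk (by omega) hpr h invC_D4 two_ne_zero hset (m := 3)
    (fun h1 => by have := Nat.le_of_dvd three_pos h1; omega) (fun x => by
      funext i
      fin_cases i <;> rfl) default (nc_equiv e hnc default)
  rw [← hn] at h1
  have h2 := totient_le_three hq0 (by omega : Nat.totient (orderOf ((q : ℕ) : ZMod p)) ≤ 3)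
  rw [← hd] at h2
  rcases h2 with h2 | h2 | h2 | h2 | h2
  · exact Or.inl h2
  · exact Or.inr (Or.inl h2)
  · exact Or.inr (Or.inr (Or.inl h2))
  · -- `p` does not divide the order
    exfalso
    have h3 : ((q : ℕ) : ZMod p) ^ 2 = -1 := by
      have h4 := pow_orderOf_eq_one ((q : ℕ) : ZMod p)
      rw [← hd, h2] at h4
      have h5 : (((q : ℕ) : ZMod p) ^ 2) * (((q : ℕ) : ZMod p) ^ 2) = 1 := by rw [← pow_add]; exact h4
      rcases mul_self_eq_one_iff.1 h5 with h6 | h6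
      · exfalso
        have h7 := orderOf_dvd_of_pow_eq_one h6
        rw [← hd, h2] at h7
        revert h7; decide
      · exact h6
    have hsmall : ∀ m : ℕ, m ≠ 0 → m < 5 → ((m : ℕ) : ZMod p) ≠ 0 := fun m h0 h4 h5 => by
      rw [ZMod.natCast_eq_zero_iff] at h5
      exact not_dvd_small (by omega) h0 h4 h5
    have h2' := hsmall 2 (by norm_num) (by norm_num)
    have h3' := hsmall 3 (by norm_num) (by norm_num)
    have hnd : ¬ p ∣ Nat.card ↥(twistedD4 F q) := by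
      rw [S1067.result hq hF]
      have hq0 : 1 ≤ q := hq.one_lt.le
      intro h4
      rw [← ZMod.natCast_eq_zero_iff] at h4
      have e1 : ((q ^ 2 - 1 : ℕ) : ZMod p) = -2 := by
        rw [Nat.cast_sub (Nat.one_le_pow _ _ hq0)]
        push_cast
        rw [h3]
        ring
      have e2 : ((q ^ 6 - 1 : ℕ) : ZMod p) = -2 := by
        rw [Nat.cast_sub (Nat.one_le_pow _ _ hq0)]
        push_cast
        have : ((q : ℕ) : ZMod p) ^ 6 = (((q : ℕ) : ZMod p) ^ 2) ^ 3 := by ring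
        rw [this, h3]
        ring
      have e3 : ((q ^ 8 + q ^ 4 + 1 : ℕ) : ZMod p) = 3 := by
        push_cast
        have : ((q : ℕ) : ZMod p) ^ 8 + ((q : ℕ) : ZMod p) ^ 4 + 1 =
          (((q : ℕ) : ZMod p) ^ 2) ^ 4 + (((q : ℕ) : ZMod p) ^ 2) ^ 2 + 1 := by ring
        rw [this, h3]
        ring
      rw [Nat.cast_mul, Nat.cast_mul, Nat.cast_mul, e1, e2, e3] at h4
      have h5 : ((q ^ 12 : ℕ) : ZMod p) ≠ 0 := by
        push_cast
        have : ((q : ℕ) : ZMod p) ^ 12 = (((q : ℕ) : ZMod p) ^ 2) ^ 6 := by ring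
        rw [this, h3]
        norm_num
      have h6 : (-2 : ZMod p) ≠ 0 := neg_ne_zero.2 (by exact_mod_cast h2')
      have h7 : (3 : ZMod p) ≠ 0 := by exact_mod_cast h3'
      exact (mul_ne_zero (mul_ne_zero (mul_ne_zero h5 h6) h6) h7) h4
    have P : Sylow p ↥(twistedD4 F q) := default
    apply nc_equiv e hnc P
    have h8 : (P : Subgroup ↥(twistedD4 F q)) = ⊥ := by
      obtain ⟨j, hj⟩ := IsPGroup.iff_card.1 P.2
      rw [← Subgroup.card_eq_one, hj]
      rcases Nat.eq_zero_or_pos j with rfl | hj0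
      · exact pow_zero p
      · exfalso
        apply hnd
        refine (dvd_pow_self p hj0.ne').trans ?_
        rw [← hj]
        exact Subgroup.card_subgroup_dvd_card _
    rw [h8]
    infer_instance
  · exact Or.inr (Or.inr (Or.inr h2))

end rows

end Cfsg.Agent.H765.KE
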