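import Cfsg.Agent.H440.TD4.Model
import Cfsg.Agent.H795.TorSub
import Cfsg.Agent.H296.KB.Rank

/-!
# The torus model for `Setup` (S4822, KE0; helper765)

`h : Setup hp p r e f σ g` (`H795.Core`): `G` a normal subgroup of the fixed points of the frame automorphism `σ` of `D.group k`
containing the elements of `p`-power order; `w` in the Weyl group; `Lam hp p (r ^ e) g w` as in `H440.TD4.Model`.

* `exists_raw` : the elements `X c` of `G` with `f (X c) = u t_c u⁻¹`, `t_c` in the torus with characters `x ↦ ζ ^ (lam c x)`;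
* `exists_modelS` : `ModelS`: `X` is a homomorphism, injective, of exponent `p` on `Lam`, fusion is controlled by the Weyl group,
  and (`p ∤ |W|`) for a root `α` trivial on `X c` but not on `X b` there is a `p'`-element centralizing `X c` which normalizes but
  does not centralize a `p`-subgroup of `C_G(X c)`;
* `ModelS.two_le_rank` : in that case `2 ≤ l(B₀(C_G(X c)))`; `ModelS.two_le_rank_top` : `2 ≤ l(B₀(G))`.
-/

set_option autoImplicit false
set_option linter.unusedSectionVars false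

namespace Cfsg.Agent.H765.KE

open CoxeterSystem Cfsg Cfsg.Lie Cfsg.Lie.ChevalleyDatum
open Cfsg.Agent.ChevalleyStructure Cfsg.Agent.ChevalleyStructure.Elts Cfsg.Agent.ChevalleyStructure.CoxeterGeom
  Cfsg.Agent.ChevalleyStructure.CoxeterGeomTypes Cfsg.Agent.ChevalleyStructure.NPerm
open Cfsg.Agent.Tits.Roots Cfsg.Agent.Tits.Core Cfsg.Agent.Nodes Cfsg.Agent.Nodes.Reps Cfsg.Agent.Nodes.BNOf
  Cfsg.Agent.Nodes.RGDChev Cfsg.Agent.Nodes.Bruhat
open Cfsg.Agent.KFacts.RgdField Cfsg.Agent.KFacts.RgdChevCoord Cfsg.Agent.BpExc.TorCent Cfsg.Agent.BpExc.TorChev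
open Cfsg.Agent.GpExc.Field Cfsg.Agent.BpExc.Tow Cfsg.Agent.BpExc.TowChev Cfsg.Agent.BpExc.Fr
  Cfsg.Agent.BpExc.LangFr Cfsg.Agent.H795.SetCent Cfsg.Agent.H795.Toral Cfsg.Agent.H795.Core
  Cfsg.Agent.H795.RootConn Cfsg.Agent.H795.SetTor Cfsg.Agent.H129.TorusChar
  Cfsg.Agent.H795.Reduce Cfsg.Agent.H795.LangT Cfsg.Agent.H123.ExcZ
  Cfsg.Agent.BpExc Cfsg.Agent.H210.EL Cfsg.Agent.H440.TD4 Cfsg.Agent.H795

universe u v

variable {D : ChevalleyDatum} {l : ℕ} {M : CoxeterMatrix (Fin l)} (hp : IsType D l M)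

/-- The model of the elements of order `p` of a torus. -/
structure ModelS (hp : IsType D l M) (p Q : ℕ) (g : (Fin l → ℤ) ≃+ (Fin l → ℤ)) (w : M.Group) {G : Type v} [Group G]
    (X : (Fin l → ZMod p) → G) : Prop where
  add : ∀ c ∈ Lam hp p Q g w, ∀ c' ∈ Lam hp p Q g w, X (c + c') = X c * X c'
  inj : ∀ c ∈ Lam hp p Q g w, X c = 1 → c = 0
  pow : ∀ c ∈ Lam hp p Q g w, X c ^ p = 1
  fus : ∀ c ∈ Lam hp p Q g w, ∀ c' ∈ Lam hp p Q g w, ∀ h : G, h * X c * h⁻¹ = X c' →
    ∃ w' : M.Group, ∀ x, lam c' (rep M.toCoxeterSystem hp.isCartan w' x) = lam c x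
  refl : ∀ c ∈ Lam hp p Q g w, ∀ b ∈ Lam hp p Q g w, ∀ α, IsRoot M.toCoxeterSystem hp.isCartan α → lam c α = 0 →
    lam b α ≠ 0 → ∃ (P : Subgroup G) (n : G), IsPGroup p ↥P ∧ (∀ y ∈ P, y * X c = X c * y) ∧ n * X c = X c * n ∧
      ¬ p ∣ orderOf n ∧ (∀ y ∈ P, n * y * n⁻¹ ∈ P) ∧ ∃ y ∈ P, n * y ≠ y * n

section

variable {k : Type u} [Field k] [IsAlgClosed k] {r e : ℕ} [hr : Fact r.Prime] [CharP k r] (hk : LocFin k)
  {σ : MulAut ↥(D.group k)} {g : (Fin l → ℤ) ≃+ (Fin l → ℤ)}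

include hp hr hk in
/-- families of elements of the torus which are conjugate in `D.group k` are conjugate under the Weyl group -/
theorem exists_weyl_fam {ι : Type} [Finite ι] {s t : ι → ↥(D.group k)} {c : ↥(D.group k)} (hs : ∀ i, s i ∈ TT D k)
    (ht : ∀ i, t i ∈ TT D k) (hc : ∀ i, c * s i = t i * c) :
    ∃ w : M.Group, ∀ i x, cX hp (t i) (rep M.toCoxeterSystem hp.isCartan w x) = cX hp (s i) x := by
  have hWf := finite_W hp (M.toCoxeterSystem)
  have H := tow hp M.toCoxeterSystem hk r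
  have C : Coords M.toCoxeterSystem hp.isCartan (TL (Tj hp (k := k))) (nc hp k) (XL (Xj hp)) (xc hp) (ch hp) := by
    rw [TL_eq hp hk, XL_eq hp hk]
    exact coordsL hp M.toCoxeterSystem hk r
  have hGt := GG_eq_top hp M.toCoxeterSystem hk
  have hTL := TL_eq (k := k) hp hk
  obtain ⟨m, hm, w, n, hn, hns, -⟩ := exists_form' H C (ι := ι) (s := s) (t := t)
    (fun i => by rw [hTL]; exact hs i) (fun i => by rw [hTL]; exact ht i) (c := c)
    (by rw [hGt]; exact Subgroup.mem_top _) hc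
  refine ⟨w, fun i x => ?_⟩
  rw [← cX_rp' hp hk hn (hs i) x, hns i, mul_inv_cancel_right]

include hk in
/-- **The elements of the model.** -/
theorem exists_raw {p : ℕ} [hpp : Fact p.Prime] (hpr : p ≠ r) {d : ℕ} {B : Fin l → Fin l → ℤ} (hB : InvC D l d B)
    (hd : d ≠ 0) {G : Type v} [Group G] {f : G →* ↥(D.group k)} (h : Setup hp p r e f σ g) (w : M.Group) :
    ∃ (ζ : k) (t : (Fin l → ZMod p) → ↥(D.group k)) (u : ↥(D.group k)) (X : (Fin l → ZMod p) → G),
      IsPrimitiveRoot ζ p ∧ (∀ c, t c ∈ TT D k) ∧ (∀ c x, cX hp (t c) x = chr ζ c x) ∧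
      (∀ c ∈ Lam hp p (r ^ e) g w, f (X c) = u * t c * u⁻¹) := by
  classical
  have hp1 : p.Prime := hpp.out
  -- the root of unity
  have hpk : (p : k) ≠ 0 := by
    intro h
    have h1 := (CharP.cast_eq_zero_iff k r p).1 h
    exact hpr.symm ((Nat.prime_dvd_prime_iff_eq hr.out hp1).1 h1)
  have : NeZero (p : k) := ⟨hpk⟩
  obtain ⟨ζ, hζ⟩ := HasEnoughRootsOfUnity.exists_primitiveRoot k p
  have hζp : ζ ^ p = 1 := hζ.pow_eq_one
  -- the torus elements
  have hex : ∀ c : Fin l → ZMod p, ∃ t ∈ TT D k, ∀ x, cX hp t x = chr ζ c x := fun c =>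
    exists_cX hp (k := k) hB hd (isMC_chr hζp c) (fun i => IsAlgClosed.exists_pow_nat_eq _ (Nat.pos_of_ne_zero hd))
  choose t ht hX using hex
  -- the frame automorphism
  have H := tow hp M.toCoxeterSystem hk r
  obtain ⟨nw, hnw⟩ := exists_rp M.toCoxeterSystem H.nsys w
  obtain ⟨u, hu⟩ := lang_all hp M.toCoxeterSystem h.e_pos h.frob h.fr 1 nw
  have hu' : nw = u⁻¹ * σ u := by
    rw [map_one, one_mul] at hu
    exact hu
  have Fr1 : Fr M.toCoxeterSystem hp.isCartan (TT D k) (XX D l k) (ct σ u)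
      (g.trans (repAut M.toCoxeterSystem hp.isCartan w)) := by
    have h1 := Fr.conj H (by rw [hu'] at hnw; exact hnw : Rp M.toCoxeterSystem H.nsys w (u⁻¹ * σ u))
    rw [TL_eq hp hk, XL_eq hp hk] at h1
    exact h1.mul h.fr
  have hσ1 : IsFrob r e (ct σ u) := h.frob.conj_mul _
  have hg1 : ∀ x, (g.trans (repAut M.toCoxeterSystem hp.isCartan w)) x =
      rep M.toCoxeterSystem hp.isCartan w (g x) := fun x => rfl
  -- fixed
  have hfixt : ∀ c ∈ Lam hp p (r ^ e) g w, ct σ u (t c) = t c := by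
    intro c hcw
    refine cX_inj hp ((Fr1.tor (t c)).2 (ht c)) (ht c) fun i => ?_
    obtain ⟨y, hy⟩ := (g.trans (repAut M.toCoxeterSystem hp.isCartan w)).surjective (sr i)
    rw [← hy, cX_sigma hp M.toCoxeterSystem hσ1 Fr1 (ht c), hX, hX, hg1]
    unfold chr
    rw [hcw y, pow_val_cast hζp]
  have htp : ∀ c, t c ^ p = 1 := by
    intro c
    refine cX_inj hp (pow_mem (ht c) p) (one_mem _) fun i => ?_
    rw [cX_pow hp (ht c), cX_one, hX]
    unfold chr
    rw [← pow_mul, mul_comm, pow_mul, hζp, one_pow]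
  have hexX : ∀ c : Fin l → ZMod p, ∃ x : G, c ∈ Lam hp p (r ^ e) g w → f x = u * t c * u⁻¹ := by
    intro c
    by_cases hc : c ∈ Lam hp p (r ^ e) g w
    · obtain ⟨x, hx⟩ := h.p_mem _ (ct_fix.1 (hfixt c hc)) ⟨1, by
        rw [pow_one, conj_pow, htp, mul_one, mul_inv_cancel]⟩
      exact ⟨x, fun _ => hx⟩
    · exact ⟨1, fun h => absurd h hc⟩
  choose X hXf using hexX
  exact ⟨ζ, t, u, X, hζ, ht, hX, hXf⟩

end

/-! ### the group theoretic part -/

/-- the `p'`-part of an element normalizing but not centralizing a `p`-subgroup -/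
theorem exists_p' {G : Type v} [Group G] [Finite G] {p : ℕ} [hpp : Fact p.Prime] (S : Sylow p G)
    (hS : IsMulCommutative (S : Subgroup G)) {n x s : G} (hn : n ∈ Subgroup.normalizer ((S : Subgroup G) : Set G))
    (hnx : n * x = x * n) (hs : s ∈ (S : Subgroup G)) (hns : n * s * n⁻¹ ≠ s) :
    ∃ m : G, m * x = x * m ∧ ¬ p ∣ orderOf m ∧ (∀ y ∈ (S : Subgroup G), m * y * m⁻¹ ∈ (S : Subgroup G)) ∧
      m * s ≠ s * m := by
  obtain ⟨a, m, hm, hnm⟩ := Nat.exists_eq_pow_mul_and_not_dvd (orderOf_pos n).ne' p hpp.out.ne_one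
  -- `n ^ m ∈ S`
  have h1 : n ^ m ∈ (S : Subgroup G) := by
    refine mem_sylow_of_normalizer (k := a) S ?_ (pow_mem hn m)
    rw [← pow_mul, mul_comm, ← hnm, pow_orderOf_eq_one]
  -- Bezout
  have hcop : (p ^ a).Coprime m := Nat.Coprime.pow_left _ ((Nat.Prime.coprime_iff_not_dvd hpp.out).2 hm)
  have hpow : ∀ j : ℕ, Commute (n ^ j) x := fun j => (show Commute n x from hnx).pow_left j
  have hm0 : m ≠ 0 := fun h0 => hm (h0 ▸ dvd_zero p)
  refine ⟨n ^ p ^ a, hpow _, ?_, ?_, ?_⟩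
  · have h2 : orderOf (n ^ p ^ a) = m := by
      rw [orderOf_pow' n (pow_ne_zero _ hpp.out.ne_zero), hnm, Nat.gcd_mul_right_left]
      exact Nat.mul_div_cancel_left _ (pow_pos hpp.out.pos a)
    rw [h2]
    exact hm
  · intro y hy
    exact (Subgroup.mem_normalizer_iff.1 (pow_mem hn (p ^ a)) y).1 hy
  · intro hcomm
    apply hns
    -- `n` is a product of powers of `n ^ p ^ a` and `n ^ m`
    have h2 : Commute (n ^ m) s := H795.comm_of hS h1 hs
    have h3 : Commute (n ^ p ^ a) s := hcomm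
    have h4 : Commute n s := by
      obtain ⟨u, v, huv⟩ : ∃ u v : ℤ, (p ^ a : ℕ) * u + m * v = 1 := by
        have := Nat.gcd_eq_gcd_ab (p ^ a) m
        rw [hcop] at this
        exact ⟨_, _, this.symm⟩
      have h5 : n = (n ^ p ^ a) ^ u * (n ^ m) ^ v := by
        rw [← zpow_natCast, ← zpow_natCast, ← zpow_mul, ← zpow_mul, ← zpow_add, huv, zpow_one]
      rw [h5]
      exact (h3.zpow_left u).mul_left (h2.zpow_left v)
    rw [h4.eq, mul_inv_cancel_right]

section

variable {k : Type u} [Field k] [IsAlgClosed k] {r e : ℕ} [hr : Fact r.Prime] [CharP k r] (hk : LocFin k)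
  {σ : MulAut ↥(D.group k)} {g : (Fin l → ℤ) ≃+ (Fin l → ℤ)}

include hp hr hk in
/-- the Sylow `p`-subgroups are toral -/
theorem toral {p : ℕ} [hpp : Fact p.Prime] (hpr : p ≠ r) (hW : ¬ p ∣ Nat.card M.Group) {G : Type v} [Group G]
    [Finite G] (f : G →* ↥(D.group k)) (S : Sylow p G) :
    ∃ z : ↥(D.group k), ∀ x ∈ (S : Subgroup G), z⁻¹ * f x * z ∈ TT D k := by
  have hfin : Finite ↥((S : Subgroup G).map f) :=
    Finite.of_surjective (fun u : ↥(S : Subgroup G) => (⟨f u, ⟨u, u.2, rfl⟩⟩ : ↥((S : Subgroup G).map f))) (by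
      rintro ⟨_, ⟨u, hu, rfl⟩⟩
      exact ⟨⟨u, hu⟩, rfl⟩)
  obtain ⟨g, hg⟩ := H795.TorSub.exists_toral_of_not_dvd hp r hk hpp.out hpr hW (Q := (S : Subgroup G).map f) (S.2.map f)
  refine ⟨g⁻¹, fun x hx => ?_⟩
  rw [inv_inv]
  exact hg _ ⟨x, hx, rfl⟩

include hp hr hk in
/-- the Sylow `p`-subgroups are abelian -/
theorem sylow_comm {p : ℕ} [hpp : Fact p.Prime] (hpr : p ≠ r) (hW : ¬ p ∣ Nat.card M.Group) {G : Type v} [Group G]
    [Finite G] {f : G →* ↥(D.group k)} (hf : Function.Injective f) (S : Sylow p G) :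
    IsMulCommutative (S : Subgroup G) := by
  obtain ⟨z, hz⟩ := toral hp hk hpr hW f S
  refine isMulCommutative_of fun a ha b hb => ?_
  apply hf
  have h1 := TT_comm hp (K := k) _ (hz a ha) _ (hz b hb)
  rw [map_mul, map_mul]
  calc f a * f b = z * ((z⁻¹ * f a * z) * (z⁻¹ * f b * z)) * z⁻¹ := by group
    _ = z * ((z⁻¹ * f b * z) * (z⁻¹ * f a * z)) * z⁻¹ := by rw [h1]
    _ = f b * f a := by group

include hk in
/-- **The torus model for `Setup`.** -/
theorem exists_modelS {p : ℕ} [hpp : Fact p.Prime] (hp2 : p ≠ 2) (hpr : p ≠ r) (hW : ¬ p ∣ Nat.card M.Group) {d : ℕ}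
    {B : Fin l → Fin l → ℤ} (hB : InvC D l d B) (hd : d ≠ 0) {G : Type v} [Group G] [Finite G]
    {f : G →* ↥(D.group k)} (h : Setup hp p r e f σ g) (w : M.Group) :
    ∃ X : (Fin l → ZMod p) → G, ModelS hp p (r ^ e) g w X := by
  classical
  obtain ⟨ζ, t, u, X, hζ, ht, hX, hXf⟩ := exists_raw hp hk hpr hB hd h w
  have hζp : ζ ^ p = 1 := hζ.pow_eq_one
  have hζinj : ∀ a b : ZMod p, ζ ^ a.val = ζ ^ b.val → a = b := by
    intro a b h
    exact ZMod.val_injective p (hζ.pow_inj (ZMod.val_lt a) (ZMod.val_lt b) h)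
  have hinj := h.inj
  have ht_add : ∀ c c', t (c + c') = t c * t c' := by
    intro c c'
    refine cX_inj hp (ht _) (mul_mem (ht _) (ht _)) fun i => ?_
    rw [cX_mul hp (ht _) (ht _), hX, hX, hX]
    unfold chr
    rw [lam_add', pow_val_add hζp]
  have ht_eq : ∀ c c' : Fin l → ZMod p, (∀ x, lam c x = lam c' x) → c = c' := by
    intro c c' h
    funext i
    have := h (sr i)
    rwa [lam_sr, lam_sr] at this
  have hadd : ∀ c ∈ Lam hp p (r ^ e) g w, ∀ c' ∈ Lam hp p (r ^ e) g w, X (c + c') = X c * X c' := by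
    intro c hc c' hc'
    apply hinj
    rw [map_mul, hXf _ (Lam.add hp hc hc'), hXf _ hc, hXf _ hc', ht_add]
    group
  have hpow : ∀ c ∈ Lam hp p (r ^ e) g w, X c ^ p = 1 := by
    intro c hc
    apply hinj
    rw [map_pow, map_one, hXf _ hc, conj_pow, conj_eq_one_iff]
    refine cX_inj hp (pow_mem (ht c) p) (one_mem _) fun i => ?_
    rw [cX_pow hp (ht c), cX_one, hX]
    unfold chr
    rw [← pow_mul, mul_comm, pow_mul, hζp, one_pow]
  refine ⟨X, hadd, ?_, hpow, ?_, ?_⟩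
  · intro c hc h1
    have h2 := hXf _ hc
    rw [h1, map_one] at h2
    have h3 : t c = 1 := by
      have h4 : u * t c * u⁻¹ = 1 := h2.symm
      rwa [conj_eq_one_iff] at h4
    refine ht_eq _ _ fun x => hζinj _ _ ?_
    have h4 := hX c x
    rw [h3, cX_one] at h4
    rw [show lam (0 : Fin l → ZMod p) x = 0 by unfold lam; simp, ZMod.val_zero, pow_zero]
    exact h4.symm
  · intro c hc c' hc' h hh
    have h1 := congrArg f hh
    rw [map_mul, map_mul, map_inv, hXf _ hc, hXf _ hc'] at h1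
    obtain ⟨w', hw'⟩ := exists_weyl (r := r) hp hk (ht c) (ht c') (c := u⁻¹ * f h * u) (by
      calc u⁻¹ * f h * u * t c = u⁻¹ * (f h * (u * t c * u⁻¹) * (f h)⁻¹) * f h * u := by group
        _ = u⁻¹ * (u * t c' * u⁻¹) * f h * u := by rw [h1]
        _ = t c' * (u⁻¹ * f h * u) := by group)
    refine ⟨w', fun x => hζinj _ _ ?_⟩
    have h2 := hw' x
    rw [hX, hX] at h2
    exact h2
  · intro c hc b hb α hα hcα hbα
    -- the group of all `X c`
    have h0 : (0 : Fin l → ZMod p) ∈ Lam hp p (r ^ e) g w := by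
      intro x
      rw [show ∀ y, lam (0 : Fin l → ZMod p) y = 0 from fun y => by unfold lam; simp,
        show ∀ y, lam (0 : Fin l → ZMod p) y = 0 from fun y => by unfold lam; simp, mul_zero]
    have hX0 : X 0 = 1 := by
      have h1 := hadd 0 h0 0 h0
      rw [add_zero] at h1
      exact (mul_eq_left.1 h1.symm)
    let E : Subgroup G :=
      { carrier := {z | ∃ c ∈ Lam hp p (r ^ e) g w, X c = z}
        one_mem' := ⟨0, h0, hX0⟩
        mul_mem' := by
          rintro _ _ ⟨c, hc, rfl⟩ ⟨c', hc', rfl⟩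
          exact ⟨c + c', Lam.add hp hc hc', hadd c hc c' hc'⟩
        inv_mem' := by
          rintro _ ⟨c, hc, rfl⟩
          have h1 : (-1 : ZMod p) • c ∈ Lam hp p (r ^ e) g w := Lam.smul hp _ hc
          refine ⟨(-1 : ZMod p) • c, h1, ?_⟩
          apply eq_inv_of_mul_eq_one_left
          rw [← hadd _ h1 _ hc, neg_one_smul, neg_add_cancel, hX0] }
    have hE : IsPGroup p ↥E := by
      rintro ⟨_, ⟨c, hc, rfl⟩⟩
      exact ⟨1, Subtype.ext (by rw [pow_one]; exact hpow c hc)⟩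
    obtain ⟨S, hES⟩ := hE.exists_le_sylow
    have hxS : X c ∈ (S : Subgroup G) := hES ⟨c, hc, rfl⟩
    have hyS : X b ∈ (S : Subgroup G) := hES ⟨b, hb, rfl⟩
    have hS := sylow_comm hp hk hpr hW hinj S
    obtain ⟨z, hz⟩ := toral hp hk hpr hW f S
    have hcf : ∀ y : G, cf f z 1 y = z⁻¹ * f y * z := by
      intro y
      rw [cf_apply, one_mul, inv_one, mul_one]
    have hcore := coreL_of_setup hp hk h hp2 hpr S hS hz
    -- the root
    obtain ⟨w', hw'⟩ := exists_weyl_fam (r := r) hp hk (ι := Bool)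
      (s := fun i => if i then t c else t b) (t := fun i => if i then cf f z 1 (X c) else cf f z 1 (X b))
      (c := z⁻¹ * u) (fun i => by cases i; exacts [ht b, ht c])
      (fun i => by
        cases i
        · show cf f z 1 (X b) ∈ _
          rw [hcf]; exact hz _ hyS
        · show cf f z 1 (X c) ∈ _
          rw [hcf]; exact hz _ hxS)
      (fun i => by
        cases i
        · show z⁻¹ * u * t b = cf f z 1 (X b) * (z⁻¹ * u)
          rw [hcf, hXf _ hb]; group
        · show z⁻¹ * u * t c = cf f z 1 (X c) * (z⁻¹ * u)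
          rw [hcf, hXf _ hc]; group)
    have hwc : ∀ x, cX hp (cf f z 1 (X c)) (rep M.toCoxeterSystem hp.isCartan w' x) = chr ζ c x := fun x => by
      rw [← hX]; exact hw' true x
    have hwb : ∀ x, cX hp (cf f z 1 (X b)) (rep M.toCoxeterSystem hp.isCartan w' x) = chr ζ b x := fun x => by
      rw [← hX]; exact hw' false x
    have hα' : IsRoot M.toCoxeterSystem hp.isCartan (rep M.toCoxeterSystem hp.isCartan w' α) := hα.act w'
    have hxT : cf f z 1 (X c) ∈ TT D k := by rw [hcf]; exact hz _ hxS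
    have hyT : cf f z 1 (X b) ∈ TT D k := by rw [hcf]; exact hz _ hyS
    have hchc : ch hp (rep M.toCoxeterSystem hp.isCartan w' α) (cf f z 1 (X c)) = 1 := by
      rw [← cX_root hp M.toCoxeterSystem hxT hα', hwc]
      unfold chr
      rw [hcα, ZMod.val_zero, pow_zero]
    have hchb : ch hp (rep M.toCoxeterSystem hp.isCartan w' α) (cf f z 1 (X b)) ≠ 1 := by
      rw [← cX_root hp M.toCoxeterSystem hyT hα', hwb]
      intro h1
      apply hbα
      apply hζinj
      rw [ZMod.val_zero, pow_zero]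
      exact h1
    have hrefl : Refl p (Subgroup.zpowers (X c)) := by
      by_contra hrf
      refine hchb (hcore (Subgroup.zpowers (X c)) ((Subgroup.zpowers_le).2 hxS) hrf _ hα' (fun x hx => ?_) _ hyS)
      obtain ⟨j, rfl⟩ : ∃ j : ℕ, X c ^ j = x := by
        rw [← mem_powers_iff_mem_zpowers] at hx
        exact hx
      rw [← cX_root hp M.toCoxeterSystem (by rw [map_pow]; exact pow_mem hxT j) hα', map_pow,
        cX_pow hp hxT, cX_root hp M.toCoxeterSystem hxT hα', hchc, one_pow]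
    obtain ⟨x', c', h1, h2, ⟨j, h3⟩, h4, h5⟩ := hrefl
    obtain ⟨n, hn, hnA, s, hs, -, hns⟩ := exists_reflection S hS (Subgroup.zpowers (X c))
      ((Subgroup.zpowers_le).2 hxS) h1 h2 h3 h4 h5
    have hnx : n * X c = X c * n := by
      have h6 := hnA (X c) (Subgroup.mem_zpowers _)
      rwa [mul_inv_eq_iff_eq_mul] at h6
    obtain ⟨m, hm1, hm2, hm3, hm4⟩ := exists_p' S hS hn hnx hs hns
    exact ⟨(S : Subgroup G), m, S.2, fun y hy => H795.comm_of hS hy hxS, hm1, hm2, hm3, s, hs, hm4⟩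

end

/-! ### ranks -/

section

variable {p Q : ℕ} [hpp : Fact p.Prime] {g : (Fin l → ℤ) ≃+ (Fin l → ℤ)} {w : M.Group} {G : Type v} [Group G]
  [Finite G] {X : (Fin l → ZMod p) → G} {Mi : Ideal AlgInt}

/-- **`2 ≤ l(B₀(C_G(X c)))` if a root is trivial on `X c`, but not on `X b`.** -/
theorem ModelS.two_le_rank {hp : IsType D l M} (m : ModelS hp p Q g w X) (hM : IsPModular p Mi)
    {c b : Fin l → ZMod p} (hc : c ∈ Lam hp p Q g w) (hb : b ∈ Lam hp p Q g w) {α : Fin l → ℤ}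
    (hα : IsRoot M.toCoxeterSystem hp.isCartan α) (h0 : lam c α = 0) (h1 : lam b α ≠ 0) :
    2 ≤ blockRank p (principalBlock Mi ↥(Subgroup.centralizer ({X c} : Set G))) := by
  obtain ⟨P, n, hP, hPc, hn, hnp, hnP, y, hy, hny⟩ := m.refl c hc b hb α hα h0 h1
  set C := Subgroup.centralizer ({X c} : Set G) with hC
  have hmem : ∀ z : G, z * X c = X c * z → z ∈ C := fun z hz => by
    rw [hC, Subgroup.mem_centralizer_singleton_iff]
    exact hz
  have hPC : P ≤ C := fun z hz => hmem z (hPc z hz)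
  refine H296.KB.two_le_rank hM (P.subgroupOf C) (hP.comap_of_injective _ C.subtype_injective)
    (⟨n, hmem n hn⟩ : ↥C) ?_ ?_ (⟨y, hPC hy⟩ : ↥C) ?_ ?_
  · rw [Subgroup.orderOf_mk]
    exact hnp
  · rintro ⟨z, hz⟩ hzP
    exact hnP z hzP
  · exact hy
  · intro h2
    exact hny (congrArg Subtype.val h2)

/-- **`2 ≤ l(B₀(G))`.** -/
theorem ModelS.two_le_rank_top {hp : IsType D l M} (m : ModelS hp p Q g w X) (hM : IsPModular p Mi)
    {b : Fin l → ZMod p} (hb : b ∈ Lam hp p Q g w) {α : Fin l → ℤ}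
    (hα : IsRoot M.toCoxeterSystem hp.isCartan α) (h1 : lam b α ≠ 0) :
    2 ≤ blockRank p (principalBlock Mi G) := by
  have h0 : ∀ y, lam (0 : Fin l → ZMod p) y = 0 := fun y => by unfold lam; simp
  have hc : (0 : Fin l → ZMod p) ∈ Lam hp p Q g w := fun x => by rw [h0, h0, mul_zero]
  obtain ⟨P, n, hP, -, -, hnp, hnP, y, hy, hny⟩ := m.refl 0 hc b hb α hα (h0 _) h1
  exact H296.KB.two_le_rank hM P hP n hnp hnP y hy hny

end

end Cfsg.Agent.H765.KE
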