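import Mathlib
import Cfsg.Agent.H210.EL.Gen

/-!
# The multiplicity of a cyclotomic factor (S4822, KE0; helper765)

`θ` an automorphism of finite order `N` of `ℤ ^ l`, `p ∤ N`, with `n` linearly independent functionals modulo `p` in the eigenspace for
the eigenvalue `Q`: then `n * φ(d) ≤ l`, `d` the order of `Q` modulo `p`.
-/

set_option autoImplicit false

namespace Cfsg.Agent.H765.KE

open Polynomial Matrix Cfsg.Agent.H210.EL Cfsg.Agent.Tits.Roots

/-- the characteristic polynomial of a matrix of finite order -/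
theorem charpoly_dvd {l N : ℕ} (A : Matrix (Fin l) (Fin l) ℤ) (hA : A ^ N = 1) :
    A.charpoly ∣ (X ^ N - 1 : ℤ[X]) ^ l := by
  have h1 : (Matrix.scalar (Fin l) (X : ℤ[X])) ^ N - (C.mapMatrix A) ^ N =
      (Matrix.scalar (Fin l) (X : ℤ[X]) - C.mapMatrix A) *
        ∑ i ∈ Finset.range N, (Matrix.scalar (Fin l) (X : ℤ[X])) ^ i * (C.mapMatrix A) ^ (N - 1 - i) := by
    refine (Commute.mul_geom_sum₂ ?_ N).symm
    exact Matrix.scalar_commute _ (fun r' => Commute.all _ _) _
  have h2 := congrArg Matrix.det h1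
  rw [Matrix.det_mul] at h2
  have h3 : (Matrix.scalar (Fin l) (X : ℤ[X])) ^ N - (C.mapMatrix A) ^ N =
      Matrix.scalar (Fin l) (X ^ N - 1 : ℤ[X]) := by
    rw [← map_pow, ← map_pow, hA, map_one, map_sub, map_one]
  rw [h3, Matrix.scalar_apply, Matrix.det_diagonal, Finset.prod_const, Finset.card_univ, Fintype.card_fin] at h2
  exact ⟨_, h2⟩

/-- **`n * φ(d) ≤ l`**, matrix form -/
theorem mul_totient_le {p l N n : ℕ} [hpp : Fact p.Prime] (hN : ¬ p ∣ N) (A : Matrix (Fin l) (Fin l) ℤ)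
    (hA : A ^ N = 1) (Q : ZMod p) (v : Fin n → Fin l → ZMod p) (hv : LinearIndependent (ZMod p) v)
    (hev : ∀ i, (A.map (Int.cast : ℤ → ZMod p)).mulVec (v i) = Q • v i) :
    n * Nat.totient (orderOf Q) ≤ l := by
  classical
  rcases Nat.eq_zero_or_pos n with rfl | hn
  · simp
  have hN0 : N ≠ 0 := fun h => hN (h ▸ dvd_zero p)
  have hNp : (N : ZMod p) ≠ 0 := by
    rw [Ne, ZMod.natCast_eq_zero_iff]
    exact hN
  set d := orderOf Q with hd
  -- the matrix modulo `p`
  let Ap : Matrix (Fin l) (Fin l) (ZMod p) := A.map (Int.castRingHom (ZMod p))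
  have hAp : Ap ^ N = 1 := by
    have h1 := congrArg (fun B : Matrix (Fin l) (Fin l) ℤ => (Int.castRingHom (ZMod p)).mapMatrix B) hA
    simp only [map_pow, map_one] at h1
    exact h1
  have hev' : ∀ i, Ap.mulVec (v i) = Q • v i := hev
  -- `Q ^ N = 1`
  have hQN : Q ^ N = 1 := by
    have h1 : ∀ j : ℕ, (Ap ^ j).mulVec (v ⟨0, hn⟩) = Q ^ j • v ⟨0, hn⟩ := by
      intro j
      induction j with
      | zero => rw [pow_zero, pow_zero, one_smul, Matrix.one_mulVec]
      | succ j ih => rw [pow_succ', ← Matrix.mulVec_mulVec, ih, Matrix.mulVec_smul, hev', smul_smul, pow_succ]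
    have h2 := h1 N
    rw [hAp, Matrix.one_mulVec] at h2
    have h3 : v ⟨0, hn⟩ ≠ 0 := hv.ne_zero _
    obtain ⟨j, hj⟩ := Function.ne_iff.1 h3
    have h4 := congrFun h2 j
    rw [Pi.smul_apply, smul_eq_mul] at h4
    exact (mul_eq_right₀ hj).1 h4.symm
  have hdN : d ∣ N := orderOf_dvd_of_pow_eq_one hQN
  have hd0 : 0 < d := Nat.pos_of_dvd_of_pos hdN (Nat.pos_of_ne_zero hN0)
  have hdp : (d : ZMod p) ≠ 0 := by
    rw [Ne, ZMod.natCast_eq_zero_iff]
    exact fun h => hN (h.trans hdN)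
  have hprim : IsPrimitiveRoot Q d := IsPrimitiveRoot.orderOf Q
  -- multiplicity of `Q`
  set f := A.charpoly with hf
  have hfm : f.Monic := A.charpoly_monic
  set F := f.map (Int.castRingHom (ZMod p)) with hF
  have hFc : F = Ap.charpoly := by rw [hF, hf]; exact (Matrix.charpoly_map A _).symm
  have hmult : n ≤ F.rootMultiplicity Q := by
    have h1 := LinearMap.finrank_eigenspace_le (Matrix.toLin' Ap) Q
    rw [Matrix.charpoly_toLin'] at h1
    rw [hFc]
    refine le_trans ?_ h1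
    let v' : Fin n → ↥(Module.End.eigenspace (Matrix.toLin' Ap) Q) := fun i => ⟨v i, by
      rw [Module.End.mem_eigenspace_iff, Matrix.toLin'_apply, hev']⟩
    have h2 : LinearIndependent (ZMod p) v' := by
      apply LinearIndependent.of_comp (Module.End.eigenspace (Matrix.toLin' Ap) Q).subtype
      exact hv
    have h3 := h2.fintype_card_le_finrank
    rwa [Fintype.card_fin] at h3
  -- the factorization
  have hΦ : Irreducible (cyclotomic d ℤ) := cyclotomic.irreducible hd0
  have hΦp : Prime (cyclotomic d ℤ) := hΦ.prime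
  have hf0 : f ≠ 0 := hfm.ne_zero
  obtain ⟨μ, R, hR, hfR⟩ : ∃ (μ : ℕ) (R : ℤ[X]), ¬ cyclotomic d ℤ ∣ R ∧ f = cyclotomic d ℤ ^ μ * R := by
    obtain ⟨R, h1, h2⟩ := (FiniteMultiplicity.of_prime_left hΦp hf0).exists_eq_pow_mul_and_not_dvd
    exact ⟨_, R, h2, h1⟩
  have hRd : R ∣ (∏ k ∈ N.divisors.erase d, cyclotomic k ℤ) ^ l := by
    have h1 : R ∣ (cyclotomic d ℤ) ^ l * (∏ k ∈ N.divisors.erase d, cyclotomic k ℤ) ^ l := by
      rw [← mul_pow, Finset.mul_prod_erase N.divisors (fun k => cyclotomic k ℤ) (Nat.mem_divisors.2 ⟨hdN, hN0⟩),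
        prod_cyclotomic_eq_X_pow_sub_one (Nat.pos_of_ne_zero hN0)]
      exact (Dvd.intro_left _ hfR.symm).trans (charpoly_dvd A hA)
    have h2 : IsRelPrime R (cyclotomic d ℤ ^ l) := by
      apply IsRelPrime.pow_right
      exact ((hΦ.isRelPrime_iff_not_dvd).2 hR).symm
    exact h2.dvd_of_dvd_mul_left h1
  -- `R(Q) ≠ 0`
  have hRQ : ¬ (R.map (Int.castRingHom (ZMod p))).IsRoot Q := by
    intro hroot
    have h1 : (((∏ k ∈ N.divisors.erase d, cyclotomic k ℤ) ^ l).map (Int.castRingHom (ZMod p))).IsRoot Q :=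
      hroot.dvd (Polynomial.map_dvd _ hRd)
    rw [Polynomial.map_pow, Polynomial.map_prod, IsRoot.def, eval_pow, eval_prod] at h1
    have h2 := eq_zero_of_pow_eq_zero h1
    obtain ⟨k, hk, hk0⟩ := Finset.prod_eq_zero_iff.1 h2
    rw [Finset.mem_erase, Nat.mem_divisors] at hk
    have hkp : NeZero (k : ZMod p) := ⟨by
      rw [Ne, ZMod.natCast_eq_zero_iff]
      exact fun h => hN (h.trans hk.2.1)⟩
    rw [map_cyclotomic_int] at hk0
    have h3 : IsPrimitiveRoot Q k := isRoot_cyclotomic_iff.1 hk0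
    exact hk.1 (h3.eq_orderOf)
  -- the multiplicity of `Q` in `F`
  have hdne : NeZero (d : ZMod p) := ⟨hdp⟩
  have hcm : (cyclotomic d (ZMod p)).rootMultiplicity Q ≤ 1 := by
    have h1 := (separable_cyclotomic d (ZMod p)).squarefree
    by_contra hcon
    push Not at hcon
    have h2 : (X - C Q) ^ 2 ∣ cyclotomic d (ZMod p) :=
      (pow_dvd_pow _ hcon).trans (pow_rootMultiplicity_dvd _ _)
    rw [pow_two] at h2
    exact not_isUnit_X_sub_C Q (h1 _ h2)
  have hle : n ≤ μ := by
    have h1 : F = cyclotomic d (ZMod p) ^ μ * R.map (Int.castRingHom (ZMod p)) := by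
      rw [hF, hfR, Polynomial.map_mul, Polynomial.map_pow, map_cyclotomic_int]
    have hF0 : F ≠ 0 := (hfm.map _).ne_zero
    rw [h1] at hmult hF0
    rw [rootMultiplicity_mul hF0, rootMultiplicity_eq_zero hRQ, add_zero] at hmult
    have h4 : cyclotomic d (ZMod p) ^ μ ≠ 0 := pow_ne_zero _ (cyclotomic_ne_zero _ _)
    have h5 : ∀ j : ℕ, (cyclotomic d (ZMod p) ^ j).rootMultiplicity Q ≤ j := by
      intro j
      induction j with
      | zero => rw [pow_zero, ← C_1, rootMultiplicity_C]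
      | succ j ih =>
        rw [pow_succ, rootMultiplicity_mul (mul_ne_zero (pow_ne_zero _ (cyclotomic_ne_zero _ _))
          (cyclotomic_ne_zero _ _))]
        omega
    exact hmult.trans (h5 μ)
  have hdeg := congrArg natDegree hfR
  have hR0 : R ≠ 0 := by
    rintro rfl
    exact hR (dvd_zero _)
  rw [natDegree_mul (pow_ne_zero _ (cyclotomic_ne_zero _ _)) hR0, natDegree_pow, natDegree_cyclotomic, hf,
    Matrix.charpoly_natDegree_eq_dim, Fintype.card_fin] at hdeg
  have := Nat.mul_le_mul_right (Nat.totient d) hle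
  omega

/-- **`n * φ(d) ≤ l`** for functionals -/
theorem mul_totient_le' {p l N n : ℕ} [hpp : Fact p.Prime] (hN : ¬ p ∣ N) (θ : (Fin l → ℤ) →+ (Fin l → ℤ))
    (hθ : ∀ x, θ^[N] x = x) (Q : ZMod p) (v : Fin n → Fin l → ZMod p) (hv : LinearIndependent (ZMod p) v)
    (hev : ∀ i x, lam (v i) (θ x) = Q * lam (v i) x) : n * Nat.totient (orderOf Q) ≤ l := by
  classical
  -- the matrix, rows `θ (sr j)`
  let A : Matrix (Fin l) (Fin l) ℤ := Matrix.of fun j n => θ (sr j) n
  have hvec : ∀ x : Fin l → ℤ, Matrix.vecMul x A = θ x := by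
    intro x
    have h1 := ext_sr (A := Fin l → ℤ) (AddMonoidHom.mk' (fun x => Matrix.vecMul x A) fun x y => Matrix.add_vecMul A x y) θ
      (fun i => by
        funext j
        show Matrix.vecMul (sr i) A j = _
        rw [Matrix.vecMul, dotProduct, Finset.sum_eq_single i]
        · rw [sr_self, one_mul]; rfl
        · intro j' _ hj'
          rw [sr_ne hj', zero_mul]
        · intro hi
          exact absurd (Finset.mem_univ i) hi) x
    exact h1
  have hpow : ∀ (j : ℕ) (x : Fin l → ℤ), Matrix.vecMul x (A ^ j) = θ^[j] x := by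
    intro j
    induction j with
    | zero => intro x; rw [pow_zero, Matrix.vecMul_one]; rfl
    | succ j ih => intro x; rw [pow_succ', ← Matrix.vecMul_vecMul, hvec, ih, Function.iterate_succ_apply]
  have hA : A ^ N = 1 := by
    apply Matrix.ext_of_single_vecMul
    intro i
    rw [hpow, hθ, Matrix.vecMul_one]
  refine mul_totient_le hN A hA Q v hv fun i => ?_
  funext j
  have h1 := hev i (sr j)
  rw [lam_sr] at h1
  rw [Pi.smul_apply, smul_eq_mul, ← h1]
  rfl

/-- the orders with `φ(d) ≤ 4` -/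
theorem totient_le_four {d : ℕ} (h0 : d ≠ 0) (h : Nat.totient d ≤ 4) :
    d = 1 ∨ d = 2 ∨ d = 3 ∨ d = 4 ∨ d = 5 ∨ d = 6 ∨ d = 8 ∨ d = 10 ∨ d = 12 := by
  have hpos : 0 < Nat.totient d := Nat.totient_pos.2 (Nat.pos_of_ne_zero h0)
  have key : ∀ m, m ∣ d → Nat.totient m ≤ 4 := fun m hm =>
    (Nat.le_of_dvd hpos (Nat.totient_dvd_of_dvd hm)).trans h
  have h120 : d ∣ 120 := by
    rw [Nat.dvd_iff_prime_pow_dvd_dvd]
    intro q k hq hqk
    rcases Nat.eq_zero_or_pos k with rfl | hk
    · simp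
    have h1 := key q ((dvd_pow_self q hk.ne').trans hqk)
    rw [Nat.totient_prime hq] at h1
    have hq5 : q ≤ 5 := by omega
    have h2 := hq.two_le
    have h3 : ∀ j, j ≤ k → Nat.totient (q ^ j) ≤ 4 := fun j hj => key _ ((pow_dvd_pow q hj).trans hqk)
    interval_cases q
    · have hk3 : k ≤ 3 := by
        by_contra hcon
        have := h3 4 (by omega)
        revert this
        decide
      exact (pow_dvd_pow 2 hk3).trans (by norm_num)
    · have hk3 : k ≤ 1 := by
        by_contra hcon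
        have := h3 2 (by omega)
        revert this
        decide
      exact (pow_dvd_pow 3 hk3).trans (by norm_num)
    · exact absurd hq (by norm_num)
    · have hk3 : k ≤ 1 := by
        by_contra hcon
        have := h3 2 (by omega)
        revert this
        decide
      exact (pow_dvd_pow 5 hk3).trans (by norm_num)
  have hmem : d ∈ Nat.divisors 120 := Nat.mem_divisors.2 ⟨h120, by norm_num⟩
  have hdec : ∀ m ∈ Nat.divisors 120, Nat.totient m ≤ 4 →
      m = 1 ∨ m = 2 ∨ m = 3 ∨ m = 4 ∨ m = 5 ∨ m = 6 ∨ m = 8 ∨ m = 10 ∨ m = 12 := by decide +kernel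
  exact hdec d hmem h

/-- the orders with `φ(d) ≤ 3` -/
theorem totient_le_three {d : ℕ} (h0 : d ≠ 0) (h : Nat.totient d ≤ 3) : d = 1 ∨ d = 2 ∨ d = 3 ∨ d = 4 ∨ d = 6 := by
  rcases totient_le_four h0 (by omega) with h1 | h1 | h1 | h1 | h1 | h1 | h1 | h1 | h1 <;> subst h1 <;>
    first | decide | (revert h; decide)

/-- the orders with `φ(d) ≤ 1` -/
theorem totient_le_one {d : ℕ} (h0 : d ≠ 0) (h : Nat.totient d ≤ 1) : d = 1 ∨ d = 2 := by
  rcases totient_le_four h0 (by omega) with h1 | h1 | h1 | h1 | h1 | h1 | h1 | h1 | h1 <;> subst h1 <;>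
    first | decide | (revert h; decide)

end Cfsg.Agent.H765.KE
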