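import Cfsg.Agent.H765.KE.Model
import Cfsg.Agent.H765.KE.Phi
import Cfsg.Agent.S0126

/-!
# The rank of the Sylow `p`-subgroups (S4822, KE0; helper765)

`h : Setup hp p r e f σ g`, `p ∤ |W|`, `g` of finite order prime to `p`; `d` the order of `q = r ^ e` modulo `p`.

* `rank_mul_totient_le` : `|Ω₁(S)| = p ^ n` implies `n * φ(d) ≤ l`;
* `two_mul_totient_le` : `2 * φ(d) ≤ l` if `S` is not cyclic.
-/

set_option autoImplicit false
set_option linter.unusedSectionVars false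

namespace Cfsg.Agent.H765.KE

open CoxeterSystem Cfsg Cfsg.Lie Cfsg.Lie.ChevalleyDatum
open Cfsg.Agent.ChevalleyStructure Cfsg.Agent.ChevalleyStructure.Elts Cfsg.Agent.ChevalleyStructure.CoxeterGeom
  Cfsg.Agent.ChevalleyStructure.CoxeterGeomTypes Cfsg.Agent.ChevalleyStructure.NPerm
open Cfsg.Agent.Tits.Roots Cfsg.Agent.Tits.Core Cfsg.Agent.Nodes Cfsg.Agent.Nodes.Reps Cfsg.Agent.Nodes.BNOf
  Cfsg.Agent.Nodes.RGDChev Cfsg.Agent.Nodes.Bruhat
open Cfsg.Agent.KFacts.RgdField Cfsg.Agent.KFacts.RgdChevCoord Cfsg.Agent.BpExc.TorCent Cfsg.Agent.BpExc.TorChev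
open Cfsg.Agent.GpExc.Field Cfsg.Agent.BpExc.Tow Cfsg.Agent.BpExc.TowChev Cfsg.Agent.BpExc.Fr
  Cfsg.Agent.BpExc.LangFr Cfsg.Agent.H795.SetCent Cfsg.Agent.H795.Toral Cfsg.Agent.H795.Core
  Cfsg.Agent.H795.RootConn Cfsg.Agent.H795.SetTor Cfsg.Agent.H129.TorusChar
  Cfsg.Agent.H795.Reduce Cfsg.Agent.H795.LangT Cfsg.Agent.H123.ExcZ
  Cfsg.Agent.BpExc Cfsg.Agent.H210.EL Cfsg.Agent.H440.TD4 Cfsg.Agent.H795

universe u v

variable {D : ChevalleyDatum} {l : ℕ} {M : CoxeterMatrix (Fin l)} (hp : IsType D l M)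

section

variable {k : Type u} [Field k] [IsAlgClosed k] {r e : ℕ} [hr : Fact r.Prime] [CharP k r] (hk : LocFin k)
  {σ : MulAut ↥(D.group k)} {g : (Fin l → ℤ) ≃+ (Fin l → ℤ)}

include hk in
/-- the lattice automorphism of a frame automorphism normalizes the Weyl group -/
theorem exists_twist {d : ℕ} {B : Fin l → Fin l → ℤ} (hB : InvC D l d B) (hd : d ≠ 0)
    (hσ : IsFrob r e σ) (F : Fr M.toCoxeterSystem hp.isCartan (TT D k) (XX D l k) σ g) (v : M.Group) :
    ∃ w : M.Group, ∀ x, rep M.toCoxeterSystem hp.isCartan w (g x) = g (rep M.toCoxeterSystem hp.isCartan v x) := by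
  obtain ⟨n, hn⟩ := exists_rp M.toCoxeterSystem (tow hp M.toCoxeterSystem hk r).nsys v
  have hnT : ∀ t ∈ TT D k, n * t * n⁻¹ ∈ TT D k := fun t ht => rp_conj_mem hp hk hn ht
  have hσT : ∀ s, σ s ∈ TT D k ↔ s ∈ TT D k := F.tor
  obtain ⟨w, hw⟩ := exists_rp_of_normalizes hp hk (r := r) (c := σ n) (fun t ht => by
    have h1 : σ⁻¹ t ∈ TT D k := by rw [← hσT, MulAut.apply_inv_self]; exact ht
    have h2 := (hσT _).2 (hnT _ h1)
    rwa [map_mul, map_mul, map_inv, MulAut.apply_inv_self] at h2)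
  refine ⟨w, fun x => ?_⟩
  refine cX_sep hp (k := k) hB hd fun t' ht' => ?_
  -- `t' = σ(n t n⁻¹)`
  obtain ⟨t, ht, rfl⟩ : ∃ t ∈ TT D k, t' = σ (n * t * n⁻¹) := by
    have h1 : σ⁻¹ t' ∈ TT D k := by rw [← hσT, MulAut.apply_inv_self]; exact ht'
    refine ⟨n⁻¹ * σ⁻¹ t' * n, ?_, ?_⟩
    · have h2 := rp_conj_mem hp hk hn.inv h1
      rwa [inv_inv] at h2
    · have h2 : n * (n⁻¹ * σ⁻¹ t' * n) * n⁻¹ = σ⁻¹ t' := by group
      rw [h2, MulAut.apply_inv_self]
  have h1 : cX hp (σ (n * t * n⁻¹)) (g (rep M.toCoxeterSystem hp.isCartan v x)) = cX hp t x ^ r ^ e := by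
    rw [cX_sigma hp M.toCoxeterSystem hσ F (hnT t ht), cX_rp' hp hk hn ht]
  have h2 : cX hp (σ (n * t * n⁻¹)) (rep M.toCoxeterSystem hp.isCartan w (g x)) = cX hp t x ^ r ^ e := by
    rw [map_mul, map_mul, map_inv, cX_rp' hp hk hw ((hσT t).2 ht), cX_sigma hp M.toCoxeterSystem hσ F ht]
  rw [h2, h1]

include hk in
/-- `rep w ∘ g` has order dividing `m |W|` if `g ^ m = 1` -/
theorem theta_iter {d : ℕ} {B : Fin l → Fin l → ℤ} (hB : InvC D l d B) (hd : d ≠ 0)
    (hσ : IsFrob r e σ) (F : Fr M.toCoxeterSystem hp.isCartan (TT D k) (XX D l k) σ g) (w : M.Group) {m : ℕ}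
    (hm : ∀ x, g^[m] x = x) (x : Fin l → ℤ) :
    (fun y => rep M.toCoxeterSystem hp.isCartan w (g y))^[m * Nat.card M.Group] x = x := by
  have h1 : ∀ j : ℕ, ∃ w' : M.Group, ∀ x, (fun y => rep M.toCoxeterSystem hp.isCartan w (g y))^[j] x =
      rep M.toCoxeterSystem hp.isCartan w' (g^[j] x) := by
    intro j
    induction j with
    | zero => exact ⟨1, fun x => by rw [map_one]; rfl⟩
    | succ j ih =>
      obtain ⟨w', hw'⟩ := ih
      obtain ⟨v, hv⟩ := exists_twist hp hk hB hd hσ F w'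
      refine ⟨w * v, fun x => ?_⟩
      rw [Function.iterate_succ_apply', hw', Function.iterate_succ_apply', ← hv, rep_mul_apply]
  obtain ⟨w', hw'⟩ := h1 m
  have h2 : ∀ (n : ℕ) (x : Fin l → ℤ), (fun y => rep M.toCoxeterSystem hp.isCartan w (g y))^[m * n] x =
      rep M.toCoxeterSystem hp.isCartan (w' ^ n) x := by
    intro n
    induction n with
    | zero => intro x; rw [mul_zero, pow_zero, map_one]; rfl
    | succ n ih => intro x; rw [mul_add, mul_one, Function.iterate_add_apply, hw', hm, ih, pow_succ, rep_mul_apply]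
  rw [h2, pow_card_eq_one', map_one]
  rfl

include hk in
/-- **The elements of order `p` of a Sylow subgroup in an eigenspace.** -/
theorem exists_lin {p : ℕ} [hpp : Fact p.Prime] (hpr : p ≠ r) (hW : ¬ p ∣ Nat.card M.Group)
    {G : Type v} [Group G] [Finite G] {f : G →* ↥(D.group k)} (h : Setup hp p r e f σ g) (S : Sylow p G)
    (hS : IsMulCommutative (S : Subgroup G)) :
    ∃ (w : M.Group) (φ : ↥(om p (S : Subgroup G) hS) → (Fin l → ZMod p)), Function.Injective φ ∧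
      (∀ x y, φ (x * y) = φ x + φ y) ∧ ∀ x, φ x ∈ Lam hp p (r ^ e) g w := by
  classical
  have hp1 : p.Prime := hpp.out
  have hpk : (p : k) ≠ 0 := by
    intro h
    have h1 := (CharP.cast_eq_zero_iff k r p).1 h
    exact hpr.symm ((Nat.prime_dvd_prime_iff_eq hr.out hp1).1 h1)
  have : NeZero (p : k) := ⟨hpk⟩
  obtain ⟨ζ, hζ⟩ := HasEnoughRootsOfUnity.exists_primitiveRoot k p
  have hζp : ζ ^ p = 1 := hζ.pow_eq_one
  have hζinj : ∀ a b : ZMod p, ζ ^ a.val = ζ ^ b.val → a = b := by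
    intro a b h
    exact ZMod.val_injective p (hζ.pow_inj (ZMod.val_lt a) (ZMod.val_lt b) h)
  obtain ⟨z, hz⟩ := toral hp hk hpr hW f S
  obtain ⟨y, a, w, h1, h2, h3, h4, -⟩ := exists_frame hp hk r h.inj h.e_pos h.frob h.fr h.fix (p := p) h.p_mem S
    ⟨z⁻¹, fun x hx => by rw [inv_inv]; exact hz x hx⟩
  let F : ↥(om p (S : Subgroup G) hS) → ↥(D.group k) := fun x => cf f y a x
  have hF : ∀ x, F x ∈ TT D k := fun x => h1 x x.2.1
  have hFm : ∀ x x', F (x * x') = F x * F x' := fun x x' => map_mul (cf f y a) _ _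
  have hFp : ∀ x, F x ^ p = 1 := fun x => by
    show cf f y a x ^ p = 1
    rw [← map_pow, x.2.2, map_one]
  -- discrete logarithms
  have hex : ∀ (x : ↥(om p (S : Subgroup G) hS)) (i : Fin l), ∃ c : ZMod p, cX hp (F x) (sr i) = ζ ^ c.val := by
    intro x i
    have h5 : cX hp (F x) (sr i) ^ p = 1 := by rw [← cX_pow hp (hF x), hFp, cX_one]
    obtain ⟨j, hj, hj'⟩ := hζ.eq_pow_of_pow_eq_one h5
    exact ⟨(j : ZMod p), by rw [ZMod.val_natCast, Nat.mod_eq_of_lt hj, hj']⟩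
  choose φ hφ using hex
  have hchr : ∀ x b, cX hp (F x) b = chr ζ (φ x) b := by
    intro x b
    refine (isMC_cX hp (hF x)).ext (isMC_chr hζp _) (fun i => ?_) b
    rw [hφ]
    unfold chr
    rw [lam_sr]
  refine ⟨w, φ, ?_, ?_, ?_⟩
  · intro x x' hxx
    have h5 : F x = F x' := by
      refine cX_inj hp (hF x) (hF x') fun i => ?_
      rw [hφ, hφ, hxx]
    exact Subtype.ext (cf_injective h.inj y a h5)
  · intro x x'
    funext i
    apply hζinj
    rw [← hφ, hFm, cX_mul hp (hF x) (hF x'), hφ, hφ, Pi.add_apply, pow_val_add hζp]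
  · intro x b
    apply hζinj
    have h5 := cX_sigma hp M.toCoxeterSystem h3 h4 (hF x) b
    have h6 : ct σ y (F x) = F x := h2 x
    rw [h6, hchr, hchr] at h5
    rw [pow_val_cast hζp]
    exact h5

include hk in
/-- **`n * φ(d) ≤ l`** if `|Ω₁(S)| = p ^ n`. -/
theorem rank_mul_totient_le {p : ℕ} [hpp : Fact p.Prime] (hpr : p ≠ r) (hW : ¬ p ∣ Nat.card M.Group) {d : ℕ}
    {B : Fin l → Fin l → ℤ} (hB : InvC D l d B) (hd : d ≠ 0) {G : Type v} [Group G] [Finite G]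
    {f : G →* ↥(D.group k)} (h : Setup hp p r e f σ g) {m : ℕ} (hmp : ¬ p ∣ m) (hm : ∀ x, g^[m] x = x) (S : Sylow p G)
    (hS : IsMulCommutative (S : Subgroup G)) {n : ℕ} (hn : p ^ n ≤ Nat.card ↥(om p (S : Subgroup G) hS)) :
    n * Nat.totient (orderOf ((r ^ e : ℕ) : ZMod p)) ≤ l := by
  classical
  obtain ⟨w, φ, hinj, hadd, hLam⟩ := exists_lin hp hk hpr hW h S hS
  -- the subspace
  let Φ : Additive ↥(om p (S : Subgroup G) hS) →+ (Fin l → ZMod p) :=
    AddMonoidHom.mk' (fun x => φ x.toMul) fun x y => hadd _ _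
  let U : Submodule (ZMod p) (Fin l → ZMod p) := AddSubgroup.toZModSubmodule p Φ.range
  have hUcard : Nat.card U = Nat.card ↥(om p (S : Subgroup G) hS) := by
    have h1 : Nat.card U = Nat.card Φ.range := rfl
    rw [h1]
    refine (Nat.card_congr (Equiv.ofBijective
      (fun x : ↥(om p (S : Subgroup G) hS) => (⟨φ x, ⟨Additive.ofMul x, rfl⟩⟩ : Φ.range)) ⟨?_, ?_⟩)).symm
    · intro x y hxy
      exact hinj (congrArg Subtype.val hxy)
    · rintro ⟨_, ⟨x, rfl⟩⟩
      exact ⟨x.toMul, rfl⟩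
  have hfr : n ≤ Module.finrank (ZMod p) U := by
    have h1 := Module.natCard_eq_pow_finrank (K := ZMod p) (V := U)
    rw [hUcard, Nat.card_zmod] at h1
    rw [h1] at hn
    exact (Nat.pow_le_pow_iff_right hpp.out.one_lt).1 hn
  have hle := mul_totient_le' (p := p) (N := m * Nat.card M.Group) (n := Module.finrank (ZMod p) U) (by
      intro h1
      rcases hpp.out.dvd_mul.1 h1 with h2 | h2
      · exact hmp h2
      · exact hW h2)
    ((rep M.toCoxeterSystem hp.isCartan w).toAddMonoidHom.comp g.toAddMonoidHom)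
    (fun x => theta_iter hp hk hB hd h.frob h.fr w hm x) ((r ^ e : ℕ) : ZMod p)
    (fun i => ((Module.finBasis (ZMod p) U i : U) : Fin l → ZMod p))
    ((Module.finBasis (ZMod p) U).linearIndependent.map' U.subtype (Submodule.ker_subtype U))
    (fun i x => by
      obtain ⟨y, hy⟩ := (Module.finBasis (ZMod p) U i).2
      have h1 := hLam y.toMul x
      have h2 : φ y.toMul = ((Module.finBasis (ZMod p) U i : U) : Fin l → ZMod p) := hy
      rw [h2] at h1
      exact h1)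
  exact (Nat.mul_le_mul_right _ hfr).trans hle

include hk in
/-- **`2 * φ(d) ≤ l`** if the Sylow `p`-subgroup is not cyclic. -/
theorem two_mul_totient_le {p : ℕ} [hpp : Fact p.Prime] (hp2 : p ≠ 2) (hpr : p ≠ r) (hW : ¬ p ∣ Nat.card M.Group)
    {d : ℕ} {B : Fin l → Fin l → ℤ} (hB : InvC D l d B) (hd : d ≠ 0) {G : Type v} [Group G] [Finite G]
    {f : G →* ↥(D.group k)} (h : Setup hp p r e f σ g) {m : ℕ} (hmp : ¬ p ∣ m) (hm : ∀ x, g^[m] x = x) (S : Sylow p G)
    (hnc : ¬ IsCyclic (S : Subgroup G)) : 2 * Nat.totient (orderOf ((r ^ e : ℕ) : ZMod p)) ≤ l := by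
  have hS := sylow_comm hp hk hpr hW h.inj S
  refine rank_mul_totient_le hp hk hpr hW hB hd h hmp hm S hS ?_
  obtain ⟨A, -, hA, hcard⟩ := S0126.result hp2 S.2 hnc
  rw [← hcard]
  refine Nat.card_le_card_of_injective
    (fun x : A => (⟨((x : ↥(S : Subgroup G)) : G), (x : ↥(S : Subgroup G)).2,
      congrArg Subtype.val (hA.2 x x.2)⟩ : ↥(om p (S : Subgroup G) hS))) ?_
  intro x y hxy
  exact Subtype.ext (Subtype.ext (congrArg (fun z : ↥(om p (S : Subgroup G) hS) => (z : G)) hxy))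

end

end Cfsg.Agent.H765.KE
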